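import Cfsg.Agent.Lib.H4.E4
import Cfsg.Agent.Lib.G14.CaseU

/-!
# S0500, endings V: the configuration `U = UT₃(4)` (port of `G14.caseU` without solvability)
-/

set_option autoImplicit false
set_option maxRecDepth 100000

namespace Cfsg.Lib.G14

open Cfsg.Lib.Calc Cfsg.Lib.Grp Cfsg.Lib.T2 Cfsg.Lib.T3 Cfsg.Lib.BG Cfsg.Lib.Mathieu Subgroup
open scoped Cfsg.Lib.Transfer commutatorElement

variable {G : Type*} [Group G] [Finite G] {γ : ℕ → G}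

local notation "𝐗" k:max => genW γ (PM.ws ul k)
local notation "𝐊" => PM.K ul
local notation "μ" => PM.gam ul

/-- copy of `exists_CU` -/
theorem exists_CU' (h : SectionalPRankLE 2 4 G) (h0 : γ 0 = 1) (hr : ∀ t ∈ relU ++ actDU, t.ev γ = 1) (z1 : γ 1 ≠ 1) (hC : CC (𝐗 1)) :
    ∃ (γ' : ℕ → G) (S : Subgroup G), CU γ' S := by
  have z2 : γ 2 ≠ 1 := fun e => z1 (conj_eq_one_iff.1
    ((mul_inv_eq_one.1 (hr (rc 7 1 (.l 2)) (List.mem_append_right _ (.head _)))).trans e))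
  have g : Gf ul γ 1 [] := of_pc ul_ok h0 (fun t ht => hr t (List.mem_append_left _ ht)) (cs := [.l 1, .l 2, m2 1 2])
    (List.forall_mem_cons.2 ⟨z1, List.forall_mem_cons.2 ⟨z2, List.forall_mem_singleton.2 fun e => z2 (conj_eq_one_iff.1
      ((mul_inv_eq_one.1 (hr (rc 7 2 (m2 1 2)) (List.mem_append_right _ (.tail _ (.head _))))).trans e))⟩⟩)
  have g7 := g.consR (.l 7) [m2 5 6, .l 6, m2 3 4, .l 4, m2 1 2, .l 2] hr
  obtain ⟨S, hS, l⟩ := Syl.exists_ge (p := 2) (.of_card (n := 6) (g.card 1)) (le_norm (𝐗 1))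
  obtain ⟨c, hc, e⟩ := intoF (X := Rs γ S ⊓ 𝐊 5) inf_le_right (fun ⟨m, hm, h5⟩ => by
    obtain ⟨x, hx, e⟩ := mem_Rs.1 hm
    obtain ⟨i, e⟩ := Gf.two g e (.of_mem hS.pgroup hx)
    exact ⟨i, Subtype.ext (k15 (cenK (ul_ok.le_zero (QuoW.of_hom (.id _) _) _ (pow_mem h5 _)) e) (pow_mem h5 _))⟩)
    fun m hm h6 => by
      obtain ⟨x, hx, e⟩ := mem_Rs.1 hm.1
      have n : 𝐍(𝐗 1) ≤ 𝐍(𝐗 2) := fun a ha => zl g ▸ N8.nrm_inf ha (N8.nrm_cent ha)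
      have c2 : x * x ∈ 𝐂(𝐗 1) := cen_sq g e (ul_ok.holds (φ := .all 6 40 [] (.one (m2 40 40))) (by decide +kernel) m h6)
      obtain ⟨a6, a5, a4, a3, a2, a1⟩ := Gf.trV g e (ul_ok.holds (φ := .all 6 40 [] (.and (.mem 2 (rc 6 40 (.l 40)))
        (.and (.mem 2 (rc 5 40 (.l 40))) (.and (.mem 2 (rc 4 40 (.l 40))) (.and (.mem 2 (rc 3 40 (.l 40)))
        (.and (.mem 2 (rc 2 40 (.l 40))) (.mem 2 (rc 1 40 (.l 40))))))))) (by decide +kernel) m h6)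
      have sq : ∀ u ∈ 𝐗 1, u * u ∈ 𝐗 2 := g.tr (φ := .all 1 40 [] (.mem 2 (m2 40 40))) (by decide +kernel)
      have s := (N8.Sect.ext (W := 𝐗 2) (V := 𝐗 1) ⟨g.le, commutator_le.2 fun a ha b hb => by
          have := mul_mem (mul_mem (sq a ha) (sq _ (mul_mem (inv_mem ha) hb))) (inv_mem (sq b hb))
          rwa [show a * a * (a⁻¹ * b * (a⁻¹ * b)) * (b * b)⁻¹ = ⁅a, b⁆ by rw [SR.cdef]; group] at this,
        fun a ha => pow_two a ▸ sq a ha⟩ (n (hS.le hx))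
        (zl g ▸ ⟨hC _ c2 (.of_mem hS.pgroup (mul_mem hx hx)), c2⟩) fun v hv => ((genW_le (H := N8.cmU (𝐗 2) x)).2 (by
          simp only [show ul.ws 1 = genU from rfl, genU, List.forall_mem_cons]
          exact ⟨⟨g.nrm 2, a6⟩, ⟨g.nrm 2, a5⟩, ⟨g.nrm 2, a4⟩, ⟨g.nrm 2, a3⟩, ⟨g.nrm 2, a2⟩, ⟨g.nrm 2, a1⟩, nil_all⟩) hv).2).2
      have := FGS.sr_top h _ _ le_top s
      obtain ⟨b, hb, e'⟩ := Gf.inK g e ((eq_of_le_of_card_ge le_sup_left (by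
        rwa [g.card 2 (n := 4), ← show Nat.card (𝐗 1) = 2 ^ 4 * 4 from g.card 1] at this)).ge (mem_sup_right (mem_zpowers x)))
      exact k15 ((mul_mem_cancel_right (inv_mem hb)).1 (cenK (mul_mem (ul0.le (i := 5) (by decide +kernel) hm.2)
        (inv_mem (ul0.le (i := 1) (by decide +kernel) hb))) e')) hm.2
  obtain ⟨γ', g', eU, tr⟩ := Gf.recoord g (ul0.norm 5 1 (by decide +kernel) hc) (cs := [6, 5, 4, 3, 2, 1]) rfl
  refine ⟨γ', S, g', eU ▸ hC, eU ▸ hS, eU ▸ l, fun x hx => ?_, γ 7, _, conj_mem_of_norm (ul0.norm 5 9 (by decide +kernel) hc)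
    (ul0.mem : μ 7 ∈ _), mt conj_eq_one_iff.1 ul0.ne, tr _ _ (g7.inN _ (.head _))⟩
  obtain ⟨u, hu, b, hb, h⟩ := pairB g (hS.le hx)
  exact ⟨u, eU ▸ hu, _, e b ⟨mem_Rs.2 ⟨_, mul_mem (inv_mem (l hu)) hx, h⟩, hb⟩, tr _ _ h⟩

end Cfsg.Lib.G14

namespace Cfsg.Lib.H4

open Subgroup Cfsg.Lib.BG Cfsg.Lib.FGS Cfsg.Lib.SR Cfsg.Lib.N8
open Cfsg.Lib.Inv (MC WR)
open scoped commutatorElement Cfsg.Lib.Transfer

open Cfsg.Lib.Calc Cfsg.Lib.T2 Cfsg.Lib.T3 Cfsg.Lib.G14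

variable {G : Type*} [Group G] [Finite G] {γ : ℕ → G} {S : Subgroup G}

/-- `U ≅ UT₃(4)` contains the 2-elements of its centralizer and is normalized by an element acting as `d`. Copy `G14.exists_CU`,
`CU.main`, `G14.caseU` (they use `Hy G` only through simplicity, the sectional rank and the endings; use `Cx.other`). -/
theorem Cx.caseU (h : Cx S) (h0 : γ 0 = 1) (hr : ∀ t ∈ relU ++ actDU, t.ev γ = 1) (z1 : γ 1 ≠ 1) (hC : CC (genW γ genU)) :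
    False := by
  obtain ⟨δ, S, c⟩ := exists_CU' h.sect h0 hr z1 hC
  have := h.simple
  have hF : ∀ k, (ul.gam 8 ∈ Rs δ S → ul.gam 8 ∈ ul.K k) → (ul.gam 9 ∈ Rs δ S → ul.gam 9 ∈ ul.K k) →
      (ul.gam 10 ∈ Rs δ S → ul.gam 10 ∈ ul.K k) → ∀ f ∈ ul.K 8, f ∈ Rs δ S → f ∈ ul.K k := fun k a b d f hf => by
    obtain e | e | e | e := ul_ok.holds (φ := .all 8 40 [] (.or (.one (.l 40)) (.or (.eq (.l 40) (.l 8))
      (.or (.eq (.l 40) (.l 9)) (.eq (.l 40) (.l 10)))))) (by decide +kernel) f hf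
    exacts [fun _ => (show f = 1 from e) ▸ one_mem _, (show f = _ from e) ▸ a, (show f = _ from e) ▸ b, (show f = _ from e) ▸ d]
  have rs : ∀ v x, (ul.ws 1).all (avoid v) = true → Rs (upd δ v x) S = Rs δ S := fun v x e => by rw [Rs, nd_upd v x e, Rs]
  have one : ∀ v, ul.gam v ∈ ul.K 8 → (W.l 0 :: ul.ws 1 ++ []).all (avoid v) = true → ul.gam v ∈ Rs δ S → ∃ x, Gf ul (upd δ v x) 1 [.l v] ∧
      CU (upd δ v x) S ∧ (∀ t ∈ [W.l v], t.ev (upd δ v x) ∈ S) ∧ upd δ v x v * upd δ v x v = 1 := fun v m e hv =>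
    let ⟨x, hx, a, b⟩ := c.inv m hv
    ⟨x, c.g.upd' v a e, c.upd v x e, List.forall_mem_singleton.2 (by rwa [ev_l, upd_self]), by rwa [upd_self]⟩
  have e10 : ul.gam 10 = ul.gam 8 * ul.gam 9 := ul0.eq
  by_cases h8 : ul.gam 8 ∈ Rs δ S <;> by_cases h9 : ul.gam 9 ∈ Rs δ S
  · obtain ⟨x, hx, y, hy, a, b, x2, y2, e⟩ := c.com h8 h9
    have g := (c.g.upd' 8 a).upd' 9 ((nd_upd (γ := δ) 8 x).ge b)
    have r : ∀ t ∈ relU ++ actF8 ++ actY ++ [G14.rs 8 (.l 0), G14.rs 9 (.l 0), rc 9 8 (.l 8)], t.ev (upd (upd δ 8 x) 9 y) = 1 :=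
      List.forall_mem_append.2 ⟨g.rels, List.forall_mem_cons.2 ⟨mul_inv_eq_one.2 (x2.trans g.zero.symm),
        List.forall_mem_cons.2 ⟨mul_inv_eq_one.2 (y2.trans g.zero.symm), List.forall_mem_singleton.2 (mul_inv_eq_one.2 e)⟩⟩⟩
    exact eLy (h.other (((c.upd 8 x).upd 9 y).main g (List.forall_mem_cons.2 ⟨hy, List.forall_mem_singleton.2 hx⟩) 13 r
      fun f hf _ => ul0.le (i := 8) (by decide +kernel) hf).2) g.zero r g.ne
  · obtain ⟨x, g, c', m, e⟩ := one 8 ul0.mem rfl h8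
    obtain ⟨g', s⟩ := c'.main g m 10 (rels_sq g (l := relU ++ actF8) g.rels e) (by
      rw [rs 8 x rfl]
      exact hF 10 (fun _ => ul0.mem) (absurd · h9) fun a => absurd ((mul_mem_cancel_left h8).1 (e10 ▸ a)) h9)
    refine e22 (γ := newLet (upd δ 8 x) [.l 0, .l 1, .l 2, .l 3, .l 5, .l 8, .l 0, m2 5 6, m2 2 4])
      (h.other (s.of_ge ?_ le_top (s.pi.of_le ((genW_newLet _ _ gen7).trans_le (ov_le g.zero))))) g.zero
      (rels_newLet g'.rels) (g.ne (x := upd δ 8 x 1) (y := 1))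
    have m : ∀ t ∈ gen7, t.ev _ ∈ genW (newLet (upd δ 8 x) [.l 0, .l 1, .l 2, .l 3, .l 5, .l 8, .l 0, m2 5 6, m2 2 4]) gen7 :=
      fun _ => mem_genW _
    simp only [gen7, List.forall_mem_cons] at m
    obtain ⟨m8, m7, m5, m4, m3, m2, m1, -⟩ := m
    refine genW_le.2 ?_
    simp only [show ul.ws 10 = .l 8 :: genU from rfl, genU, List.forall_mem_cons]
    exact ⟨m5, (mul_mem_cancel_left m4).1 m7, m4, (mul_mem_cancel_left m2).1 m8, m3, m2, m1, nil_all⟩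
  · obtain ⟨x, g, c', m, e⟩ := one 9 ul0.mem rfl h9
    obtain ⟨g', s⟩ := c'.main g m 12 (rels_sq g (l := relU ++ actY) g.rels e) (by
      rw [rs 9 x rfl]
      exact hF 12 (absurd · h8) (fun _ => ul0.mem) fun a => absurd ((mul_mem_cancel_right h9).1 (e10 ▸ a)) h8)
    exact noY h.ni g' s
  by_cases h10 : ul.gam 10 ∈ Rs δ S
  · obtain ⟨x, g, c', m, e⟩ := one 10 ul0.mem rfl h10
    have r := rels_sq g (l := relU ++ actT) g.rels e
    exact eJ2 (h.other (c'.main g m 11 r (by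
      rw [rs 10 x rfl]
      exact hF 11 (absurd · h8) (absurd · h9) fun _ => ul0.mem)).2) g.zero r g.ne
  · exact eU (h.other (c.main c.g nil_all 1 (rels := relU) c.g.rels
      (hF 1 (absurd · h8) (absurd · h9) (absurd · h10))).2) c.g.zero c.g.rels (c.g.card 1).ge

end Cfsg.Lib.H4
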