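import Cfsg.Agent.Lib.H4.Base
import Cfsg.Agent.Lib.N8.Main
import Cfsg.Agent.S1742
import Cfsg.Agent.S1776
import Cfsg.Agent.S3100
import Cfsg.Agent.S3115
import Cfsg.Agent.S1059
import Cfsg.Agent.S1067
import Cfsg.Agent.S1702
import Cfsg.Agent.Lib.Mathieu.Classes
import Cfsg.Agent.Lib.T2.JF

/-!
# S0500, endings II: type `G₂(q)`, `J₂`, `Ly`
-/

set_option autoImplicit false

namespace Cfsg.Lib.H4

open Subgroup Cfsg.Lib.BG Cfsg.Lib.FGS Cfsg.Lib.SR Cfsg.Lib.N8
open Cfsg.Lib.Inv (MC WR)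
open scoped commutatorElement Cfsg.Lib.Transfer

variable {G : Type*} [Group G] [Finite G] {S U E : Subgroup G} {x y t u : G} {n : ℕ}

namespace Cx

variable (h : Cx S)
include h

/-- Type `G₂(q)`: S1742 (for `n = n' + 1` a model is `N8.exists_g2` with `N8.gt_equiv`; for `n = 0` take `G₂(3)`, or copy the proof of
S1742 after `exists_gt`); orders of `chevG2.group`, `twistedD4`, `M₁₂` are landed statements. -/
theorem gt (k : GH.GT S x y t u n) : False := by
  have := h.simple
  obtain ⟨F, _, _, hF, _, P, e⟩ : ∃ (F : Type) (_ : Field F) (_ : Fintype F), Odd (Fintype.card F) ∧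
      Finite (Lie.chevG2.group F) ∧ ∃ P : Sylow 2 (Lie.chevG2.group F),
        Nonempty (S ≃* (P : Subgroup (Lie.chevG2.group F))) := by
    obtain _ | n := n
    · have : Fact (Nat.Prime 3) := ⟨Nat.prime_three⟩
      have hF : Odd (Fintype.card (ZMod 3)) := by decide
      have fin : Finite (Lie.chevG2.group (ZMod 3)) :=
        Nat.finite_of_card_ne_zero (by rw [Agent.S1059.result (ZMod.card 3)]; norm_num)
      obtain ⟨R, x', y', t', u', m, k', hR, d⟩ := GH.exists_gt_g2 hF
      obtain ⟨P, rfl⟩ := Syl.top_iff_sylow.1 hR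
      rw [ZMod.card] at d
      obtain rfl : m = 0 := by
        have h1 : 2 ^ (m + 2) ≤ 2 ^ 2 := d.elim (fun d => (Nat.le_of_dvd (by norm_num) d).trans (by norm_num))
          fun d => Nat.le_of_dvd (by norm_num) d
        have := (Nat.pow_le_pow_iff_right one_lt_two).1 h1
        omega
      exact ⟨ZMod 3, _, _, hF, fin, P, gt_equiv k k'⟩
    · obtain ⟨F, _, _, hF, _, P, x', y', t', u', k'⟩ := exists_g2 n
      exact ⟨F, _, _, Nat.odd_iff.2 (by omega), ‹_›, P, gt_equiv k k'⟩
  obtain ⟨Q, rfl⟩ := Syl.top_iff_sylow.1 h.syl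
  refine h.nc ?_
  unfold Concl
  rcases Agent.S1742.result hF Q P e with k | k | k
  · exact .inr (.inl k)
  · exact .inr (.inr (.inl k))
  · iterate 15 right
    exact .inl k

theorem not_j2 (e : Spor.IsoJ2 G) : False := by
  refine h.nc ?_
  unfold Concl
  iterate 19 right
  exact .inl e

theorem not_j3 (e : Spor.IsoJ3 G) : False := by
  refine h.nc ?_
  unfold Concl
  iterate 20 right
  exact .inl e

/-- S1776 -/
theorem j2 (e : ∀ P : Sylow 2 Spor.J2, Nonempty (S ≃* (P : Subgroup Spor.J2))) : False := by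
  have := h.simple
  obtain ⟨Q, rfl⟩ := Syl.top_iff_sylow.1 h.syl
  exact (Agent.S1776.result Q default (e _)).elim h.not_j2 h.not_j3

/-- S3100 -/
theorem ly (e : ∀ P : Sylow 2 Spor.Ly, Nonempty (S ≃* (P : Subgroup Spor.Ly))) : False := by
  have := h.simple
  obtain ⟨Q, rfl⟩ := Syl.top_iff_sylow.1 h.syl
  refine h.nc ?_
  unfold Concl
  iterate 22 right
  exact Agent.S3100.result h.nab Q ⟨default, e _⟩

/-- No normal `E₈` and a normal four-group whose involutions are fused: `N8.macw` and the three endings above (if `G` has 2-rank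
at most 2 the first disjunct of `Concl` holds). -/
theorem n8 (h8 : N8 S) (hU : IsKleinFour U) (h1 : U ≤ S) (h2 : S ≤ 𝐍(U))
    (hf : ∀ u ∈ U, ∀ v ∈ U, u ≠ 1 → v ≠ 1 → IsConj u v) : False := by
  obtain ⟨E, hE⟩ := exists_elem_of_le_rk (show 3 ≤ rk 2 S by
    rw [h.syl.rk_eq]; exact not_le.1 (mt rk_top_le_iff.1 fun e => h.nc (.inl e)))
  have c : Nat.card E = 8 := hE.card
  rcases macw h.ni h.syl h8 hE.le (fun x hx => by rw [← sq, hE.elem.2 x hx]) (by omega) hU h1 h2 hf with
    ⟨_, _, _, _, _, k⟩ | e | e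
  exacts [h.gt k, h.j2 e, h.ly e]

/-- S3115: a 2-constrained involution centralizer is solvable. -/
theorem con_sol (t1 : t ≠ 1) (t2 : t * t = 1) (hc : IsPConstrained 2 𝐂[t]) : Group.IsSolvable 𝐂[t] := by
  have := h.simple
  by_contra hs
  rcases Agent.S3115.result h.nab h.sect t (Inv.ord_two_iff.2 ⟨t1, t2⟩) hs hc with e | e | e
  · exact h.not_j2 e
  · exact h.not_j3 e
  · refine h.nc ?_
    unfold Concl
    iterate 17 right
    exact .inl e

end Cx

end Cfsg.Lib.H4
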