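import Cfsg.Agent.Lib.G14.Mh

/-!
# S0500, package A: the three classes of `L₃(2)` in `L₄(2)`

The letters `1..4, 8, 9, 10, 11, 15..26` are those of `G14.h16`; `5, 6, 7, 12 = x, y, d, φ ∈ K3`, `13 = r̄ ∈ K4`, `14 ∈ K2`.
`K0 = AGL₄(2)`, `K1 = Q`, `K2, K3, K4 = L₃(2)` (types (a), (b), (c)), `K5 = W`, `K6 = Q⟨8, 9⟩`, `K7 = ⟨16, 14⟩`, `K8 = ⟨1⟩`, `K9 = Q⟨5, 6⟩`,
`K10 = ⟨5, 6, 12⟩`, `K11 = ⟨8, 9, 13⟩`.
-/

set_option autoImplicit false
set_option maxRecDepth 100000

namespace Cfsg.Lib.H4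

open Cfsg.Lib.Calc Cfsg.Lib.T2 Cfsg.Lib.G14

def k16_L7 : List (ℕ × List ℕ) := [((nat_lit 2), [(nat_lit 0xfedcba9876543210), (nat_lit 0xefdcab9867542310)]),
  ((nat_lit 4), [(nat_lit 0xfedcba9876543210), (nat_lit 0xfedcab8967453210)])]

def k16_D7 : List ℕ := [(nat_lit 0), (nat_lit 513), (nat_lit 0), (nat_lit 1025)]

def k16_L8 : List (ℕ × List ℕ) := [((nat_lit 0), [(nat_lit 0xfedcba9876543210), (nat_lit 0xefcdab8967452301)])]

def k16_D8 : List ℕ := [(nat_lit 0), (nat_lit 513)]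

def k16_L9 : List (ℕ × List ℕ) := [((nat_lit 2), [(nat_lit 0xfedcba9876543210), (nat_lit 0x32dc6789ab45fe10), (nat_lit 0x23dcab546798ef10), (nat_lit 0x76543210fedcba98), (nat_lit 0xba98fedc32107654), (nat_lit 0xdcfe98ba54761032), (nat_lit 0xefcdab8967452301), (nat_lit 0x10fe45ab8967dc32), (nat_lit 0xab5423dcef106798), (nat_lit 0x6798ef1023dcab54), (nat_lit 0x1fe897645bacd32), (nat_lit 0x54761032dcfe98ba), (nat_lit 0x98badcfe10325476), (nat_lit 0xcdef89ab45670123), (nat_lit 0x897601fecd3245ba), (nat_lit 0x45bacd3201fe8976)]),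
  ((nat_lit 0), [(nat_lit 0xfedcba9876543210), (nat_lit 0xfe10ab45678932dc), (nat_lit 0xfecd6754ab983201), (nat_lit 0xfe017689ba4532cd)])]

def k16_D9 : List ℕ := [(nat_lit 0), (nat_lit 513), (nat_lit 1025), (nat_lit 1537), (nat_lit 2049), (nat_lit 2561), (nat_lit 3073), (nat_lit 117250), (nat_lit 139778), (nat_lit 149506), (nat_lit 159234), (nat_lit 186882), (nat_lit 216578), (nat_lit 248834), (nat_lit 325122), (nat_lit 363010), (nat_lit 0), (nat_lit 9516803), (nat_lit 10298115), (nat_lit 1738926852)]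

def k16_L10 : List (ℕ × List ℕ) := [((nat_lit 1), [(nat_lit 0xfedcba9876543210), (nat_lit 0x2ed159a648b73fc0)]),
  ((nat_lit 2), [(nat_lit 0xfedcba9876543210), (nat_lit 0x32dc6789ab45fe10), (nat_lit 0x23dcab546798ef10), (nat_lit 0xefdc7645ba892310)])]

def k16_D10 : List ℕ := [(nat_lit 0), (nat_lit 513), (nat_lit 0), (nat_lit 1025), (nat_lit 1537), (nat_lit 66050)]

def k16_L11 : List (ℕ × List ℕ) := [((nat_lit 4), [(nat_lit 0xfedcba9876543210), (nat_lit 0xcdefab8954763210), (nat_lit 0xdcfe89ab67453210), (nat_lit 0x98abefdc54672310)]),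
  ((nat_lit 2), [(nat_lit 0xfedcba9876543210), (nat_lit 0xba89fecd67542310)])]

def k16_D11 : List ℕ := [(nat_lit 0), (nat_lit 513), (nat_lit 1537), (nat_lit 36866), (nat_lit 0), (nat_lit 1025)]

/-- the model -/
def k16 : PM :=
  ⟨(nat_lit 16), (nat_lit 4), [(nat_lit 0xefcdab8967452301), (nat_lit 0xdcfe98ba54761032), (nat_lit 0xba98fedc32107654), (nat_lit 0x76543210fedcba98), (nat_lit 0x23dcab546798ef10), (nat_lit 0x32dc6789ab45fe10), (nat_lit 0x76dc54fe9832ba10), (nat_lit 0xdcfe89ab67453210), (nat_lit 0xba89fecd67542310), (nat_lit 0xbafedc9832765410), (nat_lit 0xd1592ea6b73f48c0), (nat_lit 0x2ed159a648b73fc0), (nat_lit 0xcdefab8954763210), (nat_lit 0xefdcab9867542310), (nat_lit 0x9cd8afeb27631450), (nat_lit 0xfedcab8967453210), (nat_lit 0x23dcab546798ef10), (nat_lit 0xdcfe89ab67453210), (nat_lit 0xcdefab8954763210), (nat_lit 0xbf518c629d73ae40), (nat_lit 0xba89dcef45762310), (nat_lit 0x9ba85764dfec1320), (nat_lit 0x1a83d64fe57c29b0),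 (nat_lit 0x1eb4d278963c5af0), (nat_lit 0x89dcfeab32674510), (nat_lit 0xefcdab8976543210)],
    [[.l 26, .l 15, .l 11, .l 4, .l 3, .l 2, .l 1],
    [.l 4, .l 3, .l 2, .l 1],
    [.l 16, .l 15],
    [.l 17, .l 15],
    [.l 18, .l 15],
    [.l 3, .l 2, .l 1],
    [.l 9, .l 8, .l 4, .l 3, .l 2, .l 1],
    [.l 14, .l 16],
    [.l 1],
    [.l 6, .l 5, .l 4, .l 3, .l 2, .l 1],
    [.l 12, .l 6, .l 5],
    [.l 13, .l 9, .l 8]],
    [h16_L0, h16_L1, h16_L9, h16_L10, h16_L11, h16_L12, h16_L8, k16_L7, k16_L8, k16_L9, k16_L10, k16_L11], [h16_D0, h16_D1, h16_D9, h16_D10, h16_D11, h16_D12, h16_D8, k16_D7, k16_D8, k16_D9, k16_D10, k16_D11]⟩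

instance k16_ne : NeZero k16.n := ⟨by decide⟩

theorem k16_ok0 : k16.ok0 = true := by decide +kernel

theorem k16_k0 : allFrom (nat_lit 0) (nat_lit 1) k16.okK = true := by decide +kernel

theorem k16_k1 : allFrom (nat_lit 1) (nat_lit 1) k16.okK = true := by decide +kernel

theorem k16_k2 : allFrom (nat_lit 2) (nat_lit 1) k16.okK = true := by decide +kernel

theorem k16_k3 : allFrom (nat_lit 3) (nat_lit 1) k16.okK = true := by decide +kernel

theorem k16_k4 : allFrom (nat_lit 4) (nat_lit 1) k16.okK = true := by decide +kernel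

theorem k16_k5 : allFrom (nat_lit 5) (nat_lit 1) k16.okK = true := by decide +kernel

theorem k16_k6 : allFrom (nat_lit 6) (nat_lit 1) k16.okK = true := by decide +kernel

theorem k16_k7 : allFrom (nat_lit 7) (nat_lit 1) k16.okK = true := by decide +kernel

theorem k16_k8 : allFrom (nat_lit 8) (nat_lit 1) k16.okK = true := by decide +kernel

theorem k16_k9 : allFrom (nat_lit 9) (nat_lit 1) k16.okK = true := by decide +kernel

theorem k16_k10 : allFrom (nat_lit 10) (nat_lit 1) k16.okK = true := by decide +kernel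

theorem k16_k11 : allFrom (nat_lit 11) (nat_lit 1) k16.okK = true := by decide +kernel

theorem k16_ok : k16.OK := PM.OK.of_check k16_ok0
  (of_allFrom_append (of_allFrom_append (of_allFrom_append (of_allFrom_append (of_allFrom_append (of_allFrom_append (of_allFrom_append (of_allFrom_append (of_allFrom_append (of_allFrom_append (of_allFrom_append (of_allFrom_append of_lt_zero k16_k0) k16_k1) k16_k2) k16_k3) k16_k4) k16_k5) k16_k6) k16_k7) k16_k8) k16_k9) k16_k10) k16_k11)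

end Cfsg.Lib.H4
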